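import Mathlib.AlgebraicGeometry.FunctionField
import Mathlib.AlgebraicGeometry.Morphisms.Separated
import Mathlib.AlgebraicGeometry.Morphisms.Immersion
import Mathlib.AlgebraicGeometry.PullbackCarrier
import Mathlib.AlgebraicGeometry.Stalk
import Mathlib.RingTheory.LocalRing.LocalSubring

/-!
# Local rings inside the function field of an integral scheme
-/

universe u

namespace Groth.Agent.Lib.SchLoc

open CategoryTheory CategoryTheory.Limits AlgebraicGeometry TopologicalSpace IsLocalRing

section Ring

variable {A B R : Type*} [CommRing A] [CommRing B] [CommRing R] [Nontrivial R] [IsLocalRing A]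
  [IsLocalRing B]

theorem range_le_range_of_comp (f : A →+* R) (g : B →+* R) (h : A →+* B) [IsLocalHom h]
    (e : g.comp h = f) : LocalSubring.range f ≤ LocalSubring.range g := by
  subst e
  have hsub : (g.comp h).range ≤ g.range := by rintro _ ⟨a, rfl⟩; exact ⟨h a, rfl⟩
  refine ⟨hsub, ⟨?_⟩⟩
  rintro ⟨_, a, rfl⟩ ha
  by_contra hna
  have hu : ¬IsUnit a := fun hu => hna (hu.map (g.comp h).rangeRestrict)
  have : IsLocalHom g.rangeRestrict :=
    IsLocalHom.of_surjective g.rangeRestrict g.rangeRestrict_surjective
  exact hu (IsUnit.of_map h a (IsUnit.of_map g.rangeRestrict (h a) ha))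

theorem exists_localHom_of_range_le {f : A →+* R} {Q : LocalSubring R}
    (hle : LocalSubring.range f ≤ Q) :
    ∃ h : A →+* Q.toSubring, IsLocalHom h ∧ Q.toSubring.subtype.comp h = f := by
  obtain ⟨hsub, hloc⟩ := hle
  have : IsLocalHom f.rangeRestrict :=
    IsLocalHom.of_surjective f.rangeRestrict f.rangeRestrict_surjective
  exact ⟨(Subring.inclusion hsub).comp f.rangeRestrict,
    @RingHom.isLocalHom_comp _ _ _ _ _ _ _ _ hloc this, RingHom.ext fun a => rfl⟩

end Ring

variable {X : Scheme.{u}} [IsIntegral X]

/-- The inclusion of a local ring in the function field, as a morphism of `CommRingCat`. -/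
theorem algebraMap_eq_stalkSpecializes (x : X) :
    CommRingCat.ofHom (algebraMap (X.presheaf.stalk x) X.functionField) =
      X.presheaf.stalkSpecializes ((genericPoint_spec X).specializes (Set.mem_univ x)) := rfl

theorem specMap_algebraMap_fromSpecStalk (x : X) :
    Spec.map (CommRingCat.ofHom (algebraMap (X.presheaf.stalk x) X.functionField)) ≫
      X.fromSpecStalk x = X.fromSpecStalk (genericPoint X) := by
  rw [algebraMap_eq_stalkSpecializes, Scheme.SpecMap_stalkSpecializes_fromSpecStalk]

theorem isDominant_specMap_subtype {R : Type u} [Field R] (Q : Subring R) :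
    IsDominant (Spec.map (CommRingCat.ofHom Q.subtype)) := by
  refine ⟨(PrimeSpectrum.denseRange_comap_iff_ker_le_nilRadical Q.subtype).mpr ?_⟩
  rw [(RingHom.injective_iff_ker_eq_bot _).mp (Subring.subtype_injective Q)]
  exact bot_le

theorem eq_of_range_le [X.IsSeparated] {x y : X} {Q : LocalSubring X.functionField}
    (hx : LocalSubring.range (algebraMap (X.presheaf.stalk x) X.functionField) ≤ Q)
    (hy : LocalSubring.range (algebraMap (X.presheaf.stalk y) X.functionField) ≤ Q) : x = y := by
  obtain ⟨φ, hφ, eφ⟩ := exists_localHom_of_range_le hx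
  obtain ⟨ψ, hψ, eψ⟩ := exists_localHom_of_range_le hy
  have key : ∀ (z : X) (χ : X.presheaf.stalk z →+* Q.toSubring),
      Q.toSubring.subtype.comp χ = algebraMap (X.presheaf.stalk z) X.functionField →
      Spec.map (CommRingCat.ofHom Q.toSubring.subtype) ≫ Spec.map (CommRingCat.ofHom χ) ≫
        X.fromSpecStalk z = X.fromSpecStalk (genericPoint X) := fun z χ e => by
    rw [← Spec.map_comp_assoc, ← CommRingCat.ofHom_comp, e, specMap_algebraMap_fromSpecStalk]
  have := isDominant_specMap_subtype Q.toSubring
  have heq : Spec.map (CommRingCat.ofHom φ) ≫ X.fromSpecStalk x =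
      Spec.map (CommRingCat.ofHom ψ) ≫ X.fromSpecStalk y :=
    ext_of_isDominant (Spec.map (CommRingCat.ofHom Q.toSubring.subtype))
      ((key x φ eφ).trans (key y ψ eψ).symm)
  have h := congrArg (fun m => m.base (closedPoint Q.toSubring)) heq
  have h1 : ∀ (z : X) (χ : X.presheaf.stalk z →+* Q.toSubring), IsLocalHom χ →
      (Spec.map (CommRingCat.ofHom χ) ≫ X.fromSpecStalk z).base (closedPoint Q.toSubring) = z := by
    intro z χ hχ
    change X.fromSpecStalk z (PrimeSpectrum.comap χ (closedPoint Q.toSubring)) = z
    rw [IsLocalRing.comap_closedPoint χ]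
    exact Scheme.fromSpecStalk_closedPoint
  simp only [h1 x φ hφ, h1 y ψ hψ] at h
  exact h

theorem range_specializes {x y : X} (h : y ⤳ x) :
    (algebraMap (X.presheaf.stalk x) X.functionField).range ≤
      (algebraMap (X.presheaf.stalk y) X.functionField).range := by
  rintro _ ⟨a, rfl⟩
  refine ⟨X.presheaf.stalkSpecializes h a, ?_⟩
  change X.presheaf.stalkSpecializes _ (X.presheaf.stalkSpecializes h a) = X.presheaf.stalkSpecializes _ a
  rw [← CommRingCat.comp_apply, TopCat.Presheaf.stalkSpecializes_comp]

theorem specializes_of_range_le [X.IsSeparated] {x y : X}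
    (h : (algebraMap (X.presheaf.stalk x) X.functionField).range ≤
      (algebraMap (X.presheaf.stalk y) X.functionField).range) : y ⤳ x := by
  set g := algebraMap (X.presheaf.stalk y) X.functionField
  have hg : Function.Injective g := IsFractionRing.injective _ _
  let e := RingEquiv.ofBijective g.rangeRestrict
    ⟨fun a b hab => hg (congrArg Subtype.val hab), g.rangeRestrict_surjective⟩
  let χ : X.presheaf.stalk x →+* X.presheaf.stalk y :=
    e.symm.toRingHom.comp ((Subring.inclusion h).comp
      (algebraMap (X.presheaf.stalk x) X.functionField).rangeRestrict)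
  have hχ : g.comp χ = algebraMap (X.presheaf.stalk x) X.functionField := RingHom.ext fun a => by
    exact congrArg Subtype.val (e.apply_symm_apply _)
  set z := X.fromSpecStalk x (PrimeSpectrum.comap χ (closedPoint _)) with hz
  have hzx : z ⤳ x := by
    have : z ∈ Set.range (X.fromSpecStalk x) := ⟨_, hz.symm⟩
    rwa [Scheme.range_fromSpecStalk] at this
  let m := Spec.map (CommRingCat.ofHom χ) ≫ X.fromSpecStalk x
  have hgen : Spec.map (CommRingCat.ofHom g) ≫ m = Spec.map (CommRingCat.ofHom g) ≫ X.fromSpecStalk y := by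
    rw [← Spec.map_comp_assoc, ← CommRingCat.ofHom_comp, hχ, specMap_algebraMap_fromSpecStalk,
      specMap_algebraMap_fromSpecStalk]
  have : IsDominant (Spec.map (CommRingCat.ofHom g)) := by
    refine ⟨(PrimeSpectrum.denseRange_comap_iff_ker_le_nilRadical g).mpr ?_⟩
    rw [(RingHom.injective_iff_ker_eq_bot _).mp hg]
    exact bot_le
  have hm : m = X.fromSpecStalk y := ext_of_isDominant (Spec.map (CommRingCat.ofHom g)) hgen
  have hzy : z = y := by
    have := congrArg (fun m => m.base (closedPoint (X.presheaf.stalk y))) hm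
    exact this.trans Scheme.fromSpecStalk_closedPoint
  exact hzy ▸ hzx

omit [IsIntegral X] in
theorem isClosed_range_diagonal_inter (T : X ⟶ ⊤_ Scheme.{u}) (U : X.Opens) (hU : IsAffineOpen U)
    (z : ↑(pullback T T)) (h1 : pullback.fst T T z ∈ U) (h2 : pullback.snd T T z ∈ U)
    (hz : z ∈ closure (Set.range (pullback.diagonal T))) : z ∈ Set.range (pullback.diagonal T) := by
  let ι' : pullback (U.ι ≫ T) (U.ι ≫ T) ⟶ pullback T T :=
    pullback.map _ _ _ _ U.ι U.ι (𝟙 _) (by simp) (by simp)
  have hcomm : pullback.diagonal (U.ι ≫ T) ≫ ι' = U.ι ≫ pullback.diagonal T := by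
    apply pullback.hom_ext <;> simp only [ι', Category.assoc, pullback.map, pullback.lift_fst,
      pullback.lift_snd, pullback.diagonal_fst_assoc, pullback.diagonal_snd_assoc,
      pullback.diagonal_fst, pullback.diagonal_snd, Category.comp_id]
  have hzr : z ∈ Set.range ι' := by
    rw [Scheme.Pullback.range_map, Set.mem_inter_iff, Set.mem_preimage, Set.mem_preimage,
      Scheme.Opens.range_ι]
    exact ⟨h1, h2⟩
  obtain ⟨w, rfl⟩ := hzr
  have : IsAffine (U : Scheme.{u}) := hU
  have hsep : IsSeparated (U.ι ≫ T) := by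
    rw [show U.ι ≫ T = terminal.from (U : Scheme.{u}) from Subsingleton.elim _ _]
    infer_instance
  have hclosed : IsClosed (Set.range (pullback.diagonal (U.ι ≫ T))) :=
    (pullback.diagonal (U.ι ≫ T)).isClosedEmbedding.isClosed_range
  have hw : w ∈ closure (ι' ⁻¹' Set.range (pullback.diagonal T)) := by
    rw [← ι'.isOpenEmbedding.isOpenMap.preimage_closure_eq_closure_preimage ι'.continuous]
    exact hz
  have hsub : ι' ⁻¹' Set.range (pullback.diagonal T) ⊆ Set.range (pullback.diagonal (U.ι ≫ T)) := by
    rintro v ⟨p, hp⟩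
    have hfst : pullback.fst T T (ι' v) = p := by
      rw [← hp, ← Scheme.Hom.comp_apply, pullback.diagonal_fst]; rfl
    have hpU : p ∈ U := by
      rw [← hfst, ← Scheme.Hom.comp_apply, show ι' ≫ pullback.fst T T = pullback.fst _ _ ≫ U.ι from pullback.lift_fst _ _ _,
        Scheme.Hom.comp_apply]
      exact (pullback.fst (U.ι ≫ T) (U.ι ≫ T) v).2
    refine ⟨⟨p, hpU⟩, ι'.isOpenEmbedding.injective ?_⟩
    rw [← hp]
    exact congrArg (fun m => m.base ⟨p, hpU⟩) hcomm
  obtain ⟨v, hv⟩ := hclosed.closure_subset_iff.mpr hsub hw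
  exact ⟨U.ι v, by rw [← hv]; exact (congrArg (fun m => m.base v) hcomm).symm⟩

theorem isSeparated_of_not_allied
    (H : ∀ (x y : X) (Q : LocalSubring X.functionField),
      LocalSubring.range (algebraMap (X.presheaf.stalk x) X.functionField) ≤ Q →
      LocalSubring.range (algebraMap (X.presheaf.stalk y) X.functionField) ≤ Q → x = y) :
    X.IsSeparated := by
  refine ⟨⟨IsClosedImmersion.of_isPreimmersion _ ?_⟩⟩
  set T := terminal.from X with hT
  refine closure_subset_iff_isClosed.mp fun z hz => ?_
  set Δ := pullback.diagonal T with hΔ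
  set η := genericPoint X with hη
  have hηz : Δ η ⤳ z := by
    rw [specializes_iff_mem_closure]
    refine closure_minimal ?_ isClosed_closure hz
    rintro _ ⟨p, rfl⟩
    exact specializes_iff_mem_closure.mp ((genericPoint_specializes p).map Δ.continuous)
  let g : (pullback T T).presheaf.stalk z →+* X.functionField :=
    ((pullback T T).presheaf.stalkSpecializes hηz ≫ Δ.stalkMap η).hom
  have hproj : ∀ (q : pullback T T ⟶ X), Δ ≫ q = 𝟙 X →
      LocalSubring.range (algebraMap (X.presheaf.stalk (q z)) X.functionField) ≤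
        LocalSubring.range g := by
    intro q hq
    refine range_le_range_of_comp _ _ (q.stalkMap z).hom ?_
    have h : Spec.map (q.stalkMap z ≫ (pullback T T).presheaf.stalkSpecializes hηz ≫ Δ.stalkMap η) ≫
        X.fromSpecStalk (q z) =
        Spec.map (CommRingCat.ofHom (algebraMap (X.presheaf.stalk (q z)) X.functionField)) ≫
          X.fromSpecStalk (q z) := by
      rw [specMap_algebraMap_fromSpecStalk, Spec.map_comp, Category.assoc,
        Scheme.SpecMap_stalkMap_fromSpecStalk, Spec.map_comp, Category.assoc,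
        Scheme.SpecMap_stalkSpecializes_fromSpecStalk_assoc,
        Scheme.SpecMap_stalkMap_fromSpecStalk_assoc, hq, Category.comp_id]
    exact congrArg CommRingCat.Hom.hom (Spec.map_injective ((cancel_mono _).mp h))
  have hxy : pullback.fst T T z = pullback.snd T T z :=
    H _ _ _ (hproj _ (pullback.diagonal_fst T)) (hproj _ (pullback.diagonal_snd T))
  obtain ⟨U, hU, hxU, -⟩ := exists_isAffineOpen_mem_and_subset (U := ⊤)
    (show pullback.fst T T z ∈ (⊤ : X.Opens) from trivial)
  exact isClosed_range_diagonal_inter T U hU z hxU (hxy ▸ hxU) hz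

theorem range_injective [X.IsSeparated] :
    Function.Injective (fun x : X ↦ (algebraMap (X.presheaf.stalk x) X.functionField).range) :=
  fun _ _ hxy => ((specializes_of_range_le hxy.ge).antisymm (specializes_of_range_le hxy.le)).eq

theorem dominated_iff {Y : Scheme.{u}} [IsIntegral Y] [Y.IsSeparated]
    (f : X ⟶ Y) (e : f (genericPoint X) = genericPoint Y) (x : X) (y : Y) :
    LocalSubring.range ((Y.presheaf.stalkSpecializes (specializes_of_eq e) ≫
        f.stalkMap (genericPoint X)).hom.comp (algebraMap (Y.presheaf.stalk y) Y.functionField)) ≤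
      LocalSubring.range (algebraMap (X.presheaf.stalk x) X.functionField) ↔ y = f x := by
  let θ : Y.functionField →+* X.functionField :=
    (Y.presheaf.stalkSpecializes (specializes_of_eq e) ≫ f.stalkMap (genericPoint X)).hom
  have hfx : θ.comp (algebraMap (Y.presheaf.stalk (f x)) Y.functionField) =
      (algebraMap (X.presheaf.stalk x) X.functionField).comp (f.stalkMap x).hom := by
    have hx : genericPoint X ⤳ x := (genericPoint_spec X).specializes (Set.mem_univ x)
    have hy : genericPoint Y ⤳ f x := (genericPoint_spec Y).specializes (Set.mem_univ _)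
    have h : Spec.map (Y.presheaf.stalkSpecializes hy ≫
        Y.presheaf.stalkSpecializes (specializes_of_eq e) ≫ f.stalkMap (genericPoint X)) ≫
          Y.fromSpecStalk (f x) =
        Spec.map (f.stalkMap x ≫ X.presheaf.stalkSpecializes hx) ≫ Y.fromSpecStalk (f x) := by
      rw [Spec.map_comp_assoc, Spec.map_comp_assoc, Spec.map_comp_assoc,
        Scheme.SpecMap_stalkSpecializes_fromSpecStalk,
        Scheme.SpecMap_stalkSpecializes_fromSpecStalk,
        Scheme.SpecMap_stalkMap_fromSpecStalk, Scheme.SpecMap_stalkMap_fromSpecStalk,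
        Scheme.SpecMap_stalkSpecializes_fromSpecStalk_assoc]
    exact congrArg CommRingCat.Hom.hom (Spec.map_injective ((cancel_mono _).mp h))
  have hle : LocalSubring.range (θ.comp (algebraMap (Y.presheaf.stalk (f x)) Y.functionField)) ≤
      LocalSubring.range (algebraMap (X.presheaf.stalk x) X.functionField) :=
    range_le_range_of_comp _ _ (f.stalkMap x).hom hfx.symm
  refine ⟨fun h => ?_, fun h => h ▸ hle⟩
  let Q : Subring Y.functionField := (LocalSubring.range
    (algebraMap (X.presheaf.stalk x) X.functionField)).toSubring.comap θ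
  have : IsLocalRing Q := by
    refine IsLocalRing.of_isUnit_or_isUnit_of_isUnit_add fun a b hab => ?_
    let θQ : Q →+* (LocalSubring.range (algebraMap (X.presheaf.stalk x) X.functionField)).toSubring :=
      (θ.comp Q.subtype).codRestrict _ fun a => a.2
    have hu : ∀ c : Q, IsUnit (θQ c) → IsUnit c := fun c hc => by
      obtain ⟨d, hd⟩ := isUnit_iff_exists_inv.mp hc
      have hd' : θ (c : Y.functionField) * (d : X.functionField) = 1 := congrArg Subtype.val hd
      have hc0 : (c : Y.functionField) ≠ 0 := fun h0 => by simp [h0] at hd'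
      refine isUnit_iff_exists_inv.mpr ⟨⟨(c : Y.functionField)⁻¹, ?_⟩, Subtype.ext (mul_inv_cancel₀ hc0)⟩
      change θ (c : Y.functionField)⁻¹ ∈
        (LocalSubring.range (algebraMap (X.presheaf.stalk x) X.functionField)).toSubring
      rw [map_inv₀, inv_eq_of_mul_eq_one_right hd']
      exact d.2
    exact (IsLocalRing.isUnit_or_isUnit_of_isUnit_add (by rw [← map_add]; exact hab.map θQ)).imp
      (hu a) (hu b)
  have hdom : ∀ w : Y, LocalSubring.range (θ.comp (algebraMap (Y.presheaf.stalk w) Y.functionField)) ≤
      LocalSubring.range (algebraMap (X.presheaf.stalk x) X.functionField) →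
      LocalSubring.range (algebraMap (Y.presheaf.stalk w) Y.functionField) ≤ LocalSubring.mk Q := by
    rintro w ⟨hsub, hloc⟩
    have hsub' : (algebraMap (Y.presheaf.stalk w) Y.functionField).range ≤ Q := by
      rintro _ ⟨a, rfl⟩; exact hsub ⟨a, rfl⟩
    refine ⟨hsub', ⟨?_⟩⟩
    rintro ⟨_, a, rfl⟩ ha
    by_contra hna
    have hu : ¬IsUnit a := fun hu =>
      hna (hu.map (algebraMap (Y.presheaf.stalk w) Y.functionField).rangeRestrict)
    obtain ⟨b, hb⟩ := isUnit_iff_exists_inv.mp ha
    have hb' := congrArg θ (congrArg Subtype.val hb)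
    have : IsUnit (Subring.inclusion hsub
        ((θ.comp (algebraMap (Y.presheaf.stalk w) Y.functionField)).rangeRestrict a)) :=
      isUnit_iff_exists_inv.mpr ⟨⟨θ (b : Y.functionField), b.2⟩,
        Subtype.ext ((map_mul θ _ _).symm.trans (hb'.trans (map_one θ)))⟩
    have : IsLocalHom (θ.comp (algebraMap (Y.presheaf.stalk w) Y.functionField)).rangeRestrict :=
      IsLocalHom.of_surjective _ (RingHom.rangeRestrict_surjective _)
    exact hu (IsUnit.of_map (θ.comp (algebraMap (Y.presheaf.stalk w) Y.functionField)).rangeRestrict a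
      (hloc.map_nonunit _ ‹IsUnit (Subring.inclusion hsub _)›))
  exact eq_of_range_le (hdom y h) (hdom (f x) hle)

end Groth.Agent.Lib.SchLoc
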